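import Mathlib

/-!
A basis of the rank 24 lattice, the coordinates of its standard generators, and the matrices of five
automorphisms.
-/

set_option autoImplicit false
set_option maxRecDepth 100000
set_option maxHeartbeats 0

namespace CfsgLib.Schur.Sporadic.Co1

/-- A row. -/
def basisRows_0 : List ℤ := [1, 1, 1, 1, 1, 1, 1, 1, 1, 1, 1, 1, 1, 1, 1, 1, 1, 1, 1, 1, 1, 1, 1, 5]

/-- A row. -/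
def basisRows_1 : List ℤ := [0, 2, 0, 0, 0, 0, 0, 0, 0, 0, 0, 0, 2, 2, 2, 2, 2, 0, 0, 2, 0, 0, 2, 0]

/-- A row. -/
def basisRows_2 : List ℤ := [0, 0, 2, 0, 0, 0, 0, 0, 0, 0, 0, 0, 2, 2, 0, 2, 0, 0, 2, 0, 2, 0, 2, 2]

/-- A row. -/
def basisRows_3 : List ℤ := [0, 0, 0, 2, 0, 0, 0, 0, 0, 0, 0, 0, 2, 2, 0, 0, 0, 2, 2, 2, 0, 2, 2, 0]

/-- A row. -/
def basisRows_4 : List ℤ := [0, 0, 0, 0, 2, 0, 0, 0, 0, 0, 0, 0, 2, 2, 0, 0, 2, 2, 0, 2, 2, 0, 0, 2]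

/-- A row. -/
def basisRows_5 : List ℤ := [0, 0, 0, 0, 0, 2, 0, 0, 0, 0, 0, 0, 0, 2, 2, 0, 0, 2, 2, 0, 2, 2, 0, 2]

/-- A row. -/
def basisRows_6 : List ℤ := [0, 0, 0, 0, 0, 0, 2, 0, 0, 0, 0, 0, 0, 0, 2, 2, 0, 0, 2, 2, 0, 2, 2, 2]

/-- A row. -/
def basisRows_7 : List ℤ := [0, 0, 0, 0, 0, 0, 0, 2, 0, 0, 0, 0, 2, 0, 2, 2, 0, 2, 2, 2, 2, 0, 0, 0]

/-- A row. -/
def basisRows_8 : List ℤ := [0, 0, 0, 0, 0, 0, 0, 0, 2, 0, 0, 0, 0, 2, 0, 2, 2, 0, 2, 2, 2, 2, 0, 0]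

/-- A row. -/
def basisRows_9 : List ℤ := [0, 0, 0, 0, 0, 0, 0, 0, 0, 2, 0, 0, 0, 0, 2, 0, 2, 2, 0, 2, 2, 2, 2, 0]

/-- A row. -/
def basisRows_10 : List ℤ := [0, 0, 0, 0, 0, 0, 0, 0, 0, 0, 2, 0, 2, 0, 2, 2, 2, 0, 0, 0, 2, 2, 0, 2]

/-- A row. -/
def basisRows_11 : List ℤ := [0, 0, 0, 0, 0, 0, 0, 0, 0, 0, 0, 2, 0, 2, 0, 2, 2, 2, 0, 0, 0, 2, 2, 2]

/-- A row. -/
def basisRows_12 : List ℤ := [0, 0, 0, 0, 0, 0, 0, 0, 0, 0, 0, 0, 4, 0, 0, 0, 0, 0, 0, 0, 0, 0, 0, 4]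

/-- A row. -/
def basisRows_13 : List ℤ := [0, 0, 0, 0, 0, 0, 0, 0, 0, 0, 0, 0, 0, 4, 0, 0, 0, 0, 0, 0, 0, 0, 0, 4]

/-- A row. -/
def basisRows_14 : List ℤ := [0, 0, 0, 0, 0, 0, 0, 0, 0, 0, 0, 0, 0, 0, 4, 0, 0, 0, 0, 0, 0, 0, 0, 4]

/-- A row. -/
def basisRows_15 : List ℤ := [0, 0, 0, 0, 0, 0, 0, 0, 0, 0, 0, 0, 0, 0, 0, 4, 0, 0, 0, 0, 0, 0, 0, 4]

/-- A row. -/
def basisRows_16 : List ℤ := [0, 0, 0, 0, 0, 0, 0, 0, 0, 0, 0, 0, 0, 0, 0, 0, 4, 0, 0, 0, 0, 0, 0, 4]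

/-- A row. -/
def basisRows_17 : List ℤ := [0, 0, 0, 0, 0, 0, 0, 0, 0, 0, 0, 0, 0, 0, 0, 0, 0, 4, 0, 0, 0, 0, 0, 4]

/-- A row. -/
def basisRows_18 : List ℤ := [0, 0, 0, 0, 0, 0, 0, 0, 0, 0, 0, 0, 0, 0, 0, 0, 0, 0, 4, 0, 0, 0, 0, 4]

/-- A row. -/
def basisRows_19 : List ℤ := [0, 0, 0, 0, 0, 0, 0, 0, 0, 0, 0, 0, 0, 0, 0, 0, 0, 0, 0, 4, 0, 0, 0, 4]

/-- A row. -/
def basisRows_20 : List ℤ := [0, 0, 0, 0, 0, 0, 0, 0, 0, 0, 0, 0, 0, 0, 0, 0, 0, 0, 0, 0, 4, 0, 0, 4]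

/-- A row. -/
def basisRows_21 : List ℤ := [0, 0, 0, 0, 0, 0, 0, 0, 0, 0, 0, 0, 0, 0, 0, 0, 0, 0, 0, 0, 0, 4, 0, 4]

/-- A row. -/
def basisRows_22 : List ℤ := [0, 0, 0, 0, 0, 0, 0, 0, 0, 0, 0, 0, 0, 0, 0, 0, 0, 0, 0, 0, 0, 0, 4, 4]

/-- A row. -/
def basisRows_23 : List ℤ := [0, 0, 0, 0, 0, 0, 0, 0, 0, 0, 0, 0, 0, 0, 0, 0, 0, 0, 0, 0, 0, 0, 0, 8]

/-- The basis. -/
def basisRows : List (List ℤ) := [basisRows_0, basisRows_1, basisRows_2, basisRows_3, basisRows_4, basisRows_5, basisRows_6, basisRows_7, basisRows_8, basisRows_9, basisRows_10, basisRows_11, basisRows_12, basisRows_13, basisRows_14, basisRows_15, basisRows_16, basisRows_17, basisRows_18, basisRows_19, basisRows_20, basisRows_21, basisRows_22, basisRows_23]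

/-- The parameters of membership. -/
def basisPar : List ℤ := [5, 0, 2, 0, 2, 2, 2, 0, 0, 0, 2, 2, 4, 4, 4, 4, 4, 4, 4, 4, 4, 4, 4, 8]

/-- A row. -/
def genRows_0 : List ℤ := [4, -2, -2, -2, -2, -2, -2, -2, -2, -2, -2, -2, 5, 6, 5, 6, 5, 5, 5, 6, 6, 6, 5, -30]

/-- A row. -/
def genRows_1 : List ℤ := [0, 2, 0, 0, 0, 0, 0, 0, 0, 0, 0, 0, -1, -1, -1, -1, -1, 0, 0, -1, 0, 0, -1, 3]

/-- A row. -/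
def genRows_2 : List ℤ := [0, 0, 2, 0, 0, 0, 0, 0, 0, 0, 0, 0, -1, -1, 0, -1, 0, 0, -1, 0, -1, 0, -1, 2]

/-- A row. -/
def genRows_3 : List ℤ := [0, 0, 0, 2, 0, 0, 0, 0, 0, 0, 0, 0, -1, -1, 0, 0, 0, -1, -1, -1, 0, -1, -1, 3]

/-- A row. -/
def genRows_4 : List ℤ := [0, 0, 0, 0, 2, 0, 0, 0, 0, 0, 0, 0, -1, -1, 0, 0, -1, -1, 0, -1, -1, 0, 0, 2]

/-- A row. -/
def genRows_5 : List ℤ := [0, 0, 0, 0, 0, 2, 0, 0, 0, 0, 0, 0, 0, -1, -1, 0, 0, -1, -1, 0, -1, -1, 0, 2]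

/-- A row. -/
def genRows_6 : List ℤ := [0, 0, 0, 0, 0, 0, 2, 0, 0, 0, 0, 0, 0, 0, -1, -1, 0, 0, -1, -1, 0, -1, -1, 2]

/-- A row. -/
def genRows_7 : List ℤ := [0, 0, 0, 0, 0, 0, 0, 2, 0, 0, 0, 0, -1, 0, -1, -1, 0, -1, -1, -1, -1, 0, 0, 3]

/-- A row. -/
def genRows_8 : List ℤ := [0, 0, 0, 0, 0, 0, 0, 0, 2, 0, 0, 0, 0, -1, 0, -1, -1, 0, -1, -1, -1, -1, 0, 3]

/-- A row. -/
def genRows_9 : List ℤ := [0, 0, 0, 0, 0, 0, 0, 0, 0, 2, 0, 0, 0, 0, -1, 0, -1, -1, 0, -1, -1, -1, -1, 3]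

/-- A row. -/
def genRows_10 : List ℤ := [0, 0, 0, 0, 0, 0, 0, 0, 0, 0, 2, 0, -1, 0, -1, -1, -1, 0, 0, 0, -1, -1, 0, 2]

/-- A row. -/
def genRows_11 : List ℤ := [0, 0, 0, 0, 0, 0, 0, 0, 0, 0, 0, 2, 0, -1, 0, -1, -1, -1, 0, 0, 0, -1, -1, 2]

/-- A row. -/
def genRows_12 : List ℤ := [0, 0, 0, 0, 0, 0, 0, 0, 0, 0, 0, 0, 1, 0, 0, 0, 0, 0, 0, 0, 0, 0, 0, -1]

/-- A row. -/
def genRows_13 : List ℤ := [0, 0, 0, 0, 0, 0, 0, 0, 0, 0, 0, 0, 0, 1, 0, 0, 0, 0, 0, 0, 0, 0, 0, -1]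

/-- A row. -/
def genRows_14 : List ℤ := [0, 0, 0, 0, 0, 0, 0, 0, 0, 0, 0, 0, 0, 0, 1, 0, 0, 0, 0, 0, 0, 0, 0, -1]

/-- A row. -/
def genRows_15 : List ℤ := [0, 0, 0, 0, 0, 0, 0, 0, 0, 0, 0, 0, 0, 0, 0, 1, 0, 0, 0, 0, 0, 0, 0, -1]

/-- A row. -/
def genRows_16 : List ℤ := [0, 0, 0, 0, 0, 0, 0, 0, 0, 0, 0, 0, 0, 0, 0, 0, 1, 0, 0, 0, 0, 0, 0, -1]

/-- A row. -/
def genRows_17 : List ℤ := [0, 0, 0, 0, 0, 0, 0, 0, 0, 0, 0, 0, 0, 0, 0, 0, 0, 1, 0, 0, 0, 0, 0, -1]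

/-- A row. -/
def genRows_18 : List ℤ := [0, 0, 0, 0, 0, 0, 0, 0, 0, 0, 0, 0, 0, 0, 0, 0, 0, 0, 1, 0, 0, 0, 0, -1]

/-- A row. -/
def genRows_19 : List ℤ := [0, 0, 0, 0, 0, 0, 0, 0, 0, 0, 0, 0, 0, 0, 0, 0, 0, 0, 0, 1, 0, 0, 0, -1]

/-- A row. -/
def genRows_20 : List ℤ := [0, 0, 0, 0, 0, 0, 0, 0, 0, 0, 0, 0, 0, 0, 0, 0, 0, 0, 0, 0, 1, 0, 0, -1]

/-- A row. -/
def genRows_21 : List ℤ := [0, 0, 0, 0, 0, 0, 0, 0, 0, 0, 0, 0, 0, 0, 0, 0, 0, 0, 0, 0, 0, 1, 0, -1]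

/-- A row. -/
def genRows_22 : List ℤ := [0, 0, 0, 0, 0, 0, 0, 0, 0, 0, 0, 0, 0, 0, 0, 0, 0, 0, 0, 0, 0, 0, 1, -1]

/-- A row. -/
def genRows_23 : List ℤ := [0, 0, 0, 0, 0, 0, 0, 0, 0, 0, 0, 0, 0, 0, 0, 0, 0, 0, 0, 0, 0, 0, 0, 1]

/-- A row. -/
def genRows_24 : List ℤ := [1, 0, 0, 0, 0, 0, 0, 0, 0, 0, 0, 0, 0, 0, 0, 0, 0, 0, 0, 0, 0, 0, 0, -1]

/-- A row. -/
def genRows_25 : List ℤ := [2, -1, -1, -1, -1, -1, -1, -1, -1, -1, -1, -1, 3, 3, 3, 3, 3, 3, 3, 3, 3, 3, 3, -16]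

/-- A row. -/
def genRows_26 : List ℤ := [0, 1, 0, 0, 0, 0, 0, 0, 0, 0, 0, 0, 0, 0, 0, 0, 0, 0, 0, 0, 0, 0, 0, 0]

/-- A row. -/
def genRows_27 : List ℤ := [0, 0, 1, 0, 0, 0, 0, 0, 0, 0, 0, 0, 0, 0, 0, 0, 0, 0, 0, 0, 0, 0, 0, 0]

/-- A row. -/
def genRows_28 : List ℤ := [0, 0, 0, 1, 0, 0, 0, 0, 0, 0, 0, 0, 0, 0, 0, 0, 0, 0, 0, 0, 0, 0, 0, 0]

/-- A row. -/
def genRows_29 : List ℤ := [0, 0, 0, 0, 1, 0, 0, 0, 0, 0, 0, 0, 0, 0, 0, 0, 0, 0, 0, 0, 0, 0, 0, 0]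

/-- A row. -/
def genRows_30 : List ℤ := [0, 0, 0, 0, 0, 1, 0, 0, 0, 0, 0, 0, 0, 0, 0, 0, 0, 0, 0, 0, 0, 0, 0, 0]

/-- A row. -/
def genRows_31 : List ℤ := [0, 0, 0, 0, 0, 0, 1, 0, 0, 0, 0, 0, 0, 0, 0, 0, 0, 0, 0, 0, 0, 0, 0, 0]

/-- A row. -/
def genRows_32 : List ℤ := [0, 0, 0, 0, 0, 0, 0, 1, 0, 0, 0, 0, 0, 0, 0, 0, 0, 0, 0, 0, 0, 0, 0, 0]

/-- A row. -/
def genRows_33 : List ℤ := [0, 0, 0, 0, 0, 0, 0, 0, 1, 0, 0, 0, 0, 0, 0, 0, 0, 0, 0, 0, 0, 0, 0, 0]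

/-- A row. -/
def genRows_34 : List ℤ := [0, 0, 0, 0, 0, 0, 0, 0, 0, 1, 0, 0, 0, 0, 0, 0, 0, 0, 0, 0, 0, 0, 0, 0]

/-- A row. -/
def genRows_35 : List ℤ := [0, 0, 0, 0, 0, 0, 0, 0, 0, 0, 1, 0, 0, 0, 0, 0, 0, 0, 0, 0, 0, 0, 0, 0]

/-- A row. -/
def genRows_36 : List ℤ := [0, 0, 0, 0, 0, 0, 0, 0, 0, 0, 0, 1, 0, 0, 0, 0, 0, 0, 0, 0, 0, 0, 0, 0]

/-- Coordinates of the generators. -/
def genRows : List (List ℤ) := [genRows_0, genRows_1, genRows_2, genRows_3, genRows_4, genRows_5, genRows_6, genRows_7, genRows_8, genRows_9, genRows_10, genRows_11, genRows_12, genRows_13, genRows_14, genRows_15, genRows_16, genRows_17, genRows_18, genRows_19, genRows_20, genRows_21, genRows_22, genRows_23, genRows_24, genRows_25, genRows_26, genRows_27, genRows_28, genRows_29, genRows_30,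 genRows_31, genRows_32, genRows_33, genRows_34, genRows_35, genRows_36]

/-- A row. -/
def imgRows0_0 : List ℤ := [1, 0, 0, 0, 0, 0, 0, 0, 0, 0, 0, 0, 0, 0, 0, 0, 0, 0, 0, 0, 0, 0, 0, 0]

/-- A row. -/
def imgRows0_1 : List ℤ := [2, -1, -1, -1, -1, -1, -1, -1, -1, -1, -1, 0, 3, 3, 3, 3, 2, 2, 3, 3, 3, 3, 2, -15]

/-- A row. -/
def imgRows0_2 : List ℤ := [0, 1, 0, 0, 0, 0, 0, 0, 0, 0, 0, 1, 0, -1, 0, -1, -1, 0, 0, 0, 0, 0, -1, 2]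

/-- A row. -/
def imgRows0_3 : List ℤ := [0, 0, 1, 0, 0, 0, 0, 0, 0, 0, 0, 1, 0, -1, 0, -1, 0, 0, 0, 0, 0, 0, -1, 1]

/-- A row. -/
def imgRows0_4 : List ℤ := [0, 0, 0, 1, 0, 0, 0, 0, 0, 0, 0, 1, 0, -1, 0, 0, 0, -1, 0, 0, 0, -1, -1, 2]

/-- A row. -/
def imgRows0_5 : List ℤ := [0, 0, 0, 0, 1, 0, 0, 0, 0, 0, 0, 0, 0, 0, 0, 0, 0, 0, 0, 0, 0, 0, 0, 0]

/-- A row. -/
def imgRows0_6 : List ℤ := [0, 0, 0, 0, 0, 1, 0, 0, 0, 0, 0, 0, 0, 0, 0, 0, 0, 0, 0, 0, 0, 0, 0, 0]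

/-- A row. -/
def imgRows0_7 : List ℤ := [0, 0, 0, 0, 0, 0, 1, 0, 0, 0, 0, 1, 0, 0, 0, -1, 0, 0, 0, 0, 0, -1, -1, 1]

/-- A row. -/
def imgRows0_8 : List ℤ := [0, 0, 0, 0, 0, 0, 0, 1, 0, 0, 0, 0, 0, 0, 0, 0, 0, 0, 0, 0, 0, 0, 0, 0]

/-- A row. -/
def imgRows0_9 : List ℤ := [0, 0, 0, 0, 0, 0, 0, 0, 1, 0, 0, 0, 0, 0, 0, 0, 0, 0, 0, 0, 0, 0, 0, 0]

/-- A row. -/
def imgRows0_10 : List ℤ := [0, 0, 0, 0, 0, 0, 0, 0, 0, 1, 0, 1, 0, 0, 0, 0, -1, -1, 0, 0, 0, -1, -1, 2]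

/-- A row. -/
def imgRows0_11 : List ℤ := [0, 0, 0, 0, 0, 0, 0, 0, 0, 0, 1, 0, 0, 0, 0, 0, 0, 0, 0, 0, 0, 0, 0, 0]

/-- A row. -/
def imgRows0_12 : List ℤ := [0, 0, 0, 0, 0, 0, 0, 0, 0, 0, 0, 2, 0, -1, 0, -1, -1, -1, 0, 0, 0, -1, -1, 3]

/-- A row. -/
def imgRows0_13 : List ℤ := [0, 0, 0, 0, 0, 0, 0, 0, 0, 0, 0, 0, 1, 0, 0, 0, 0, 0, 0, 0, 0, 0, 0, 0]

/-- A row. -/
def imgRows0_14 : List ℤ := [0, 0, 0, 0, 0, 0, 0, 0, 0, 0, 0, 0, 0, 1, 0, 0, 0, 0, 0, 0, 0, 0, 0, 0]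

/-- A row. -/
def imgRows0_15 : List ℤ := [0, 0, 0, 0, 0, 0, 0, 0, 0, 0, 0, 0, 0, 0, 1, 0, 0, 0, 0, 0, 0, 0, 0, 0]

/-- A row. -/
def imgRows0_16 : List ℤ := [0, 0, 0, 0, 0, 0, 0, 0, 0, 0, 0, 0, 0, 0, 0, 1, 0, 0, 0, 0, 0, 0, 0, 0]

/-- A row. -/
def imgRows0_17 : List ℤ := [0, 0, 0, 0, 0, 0, 0, 0, 0, 0, 0, 0, 0, 0, 0, 0, 1, 0, 0, 0, 0, 0, 0, 0]

/-- A row. -/
def imgRows0_18 : List ℤ := [0, 0, 0, 0, 0, 0, 0, 0, 0, 0, 0, 0, 0, 0, 0, 0, 0, 1, 0, 0, 0, 0, 0, 0]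

/-- A row. -/
def imgRows0_19 : List ℤ := [0, 0, 0, 0, 0, 0, 0, 0, 0, 0, 0, 0, 0, 0, 0, 0, 0, 0, 1, 0, 0, 0, 0, 0]

/-- A row. -/
def imgRows0_20 : List ℤ := [0, 0, 0, 0, 0, 0, 0, 0, 0, 0, 0, 0, 0, 0, 0, 0, 0, 0, 0, 1, 0, 0, 0, 0]

/-- A row. -/
def imgRows0_21 : List ℤ := [0, 0, 0, 0, 0, 0, 0, 0, 0, 0, 0, 0, 0, 0, 0, 0, 0, 0, 0, 0, 1, 0, 0, 0]

/-- A row. -/
def imgRows0_22 : List ℤ := [0, 0, 0, 0, 0, 0, 0, 0, 0, 0, 0, 0, 0, 0, 0, 0, 0, 0, 0, 0, 0, 1, 0, 0]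

/-- A row. -/
def imgRows0_23 : List ℤ := [0, 0, 0, 0, 0, 0, 0, 0, 0, 0, 0, 0, 0, 0, 0, 0, 0, 0, 0, 0, 0, 0, 0, 1]

/-- Coordinates of the images of the basis. -/
def imgRows0 : List (List ℤ) := [imgRows0_0, imgRows0_1, imgRows0_2, imgRows0_3, imgRows0_4, imgRows0_5, imgRows0_6, imgRows0_7, imgRows0_8, imgRows0_9, imgRows0_10, imgRows0_11, imgRows0_12, imgRows0_13, imgRows0_14, imgRows0_15, imgRows0_16, imgRows0_17, imgRows0_18, imgRows0_19, imgRows0_20, imgRows0_21, imgRows0_22, imgRows0_23]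

/-- A row. -/
def imgRows1_0 : List ℤ := [5, -2, -2, -2, -2, -2, -2, -2, -2, -2, -2, -2, 5, 6, 5, 6, 5, 5, 5, 6, 6, 6, 5, -30]

/-- A row. -/
def imgRows1_1 : List ℤ := [0, 1, 0, 1, 0, 0, 1, 1, 0, 0, 1, 0, -2, -1, -2, -2, -1, -1, -1, -2, -1, -1, -1, 7]

/-- A row. -/
def imgRows1_2 : List ℤ := [2, 0, -1, 0, -1, -1, -1, 0, 0, -1, -1, 0, 1, 1, 2, 1, 1, 1, 1, 1, 2, 2, 1, -7]

/-- A row. -/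
def imgRows1_3 : List ℤ := [0, 1, 0, 0, 1, 0, 1, 1, 0, 0, 0, 0, -1, -1, -1, -1, -1, -1, -1, -2, -1, 0, -1, 5]

/-- A row. -/
def imgRows1_4 : List ℤ := [2, -1, -1, -1, 0, -1, 0, 0, 0, -1, 0, -1, 1, 2, 1, 1, 1, 2, 1, 1, 1, 2, 2, -8]

/-- A row. -/
def imgRows1_5 : List ℤ := [2, -1, -1, -1, 0, -1, -1, 0, 0, 0, -1, -1, 2, 2, 2, 2, 1, 1, 2, 1, 1, 2, 2, -9]

/-- A row. -/
def imgRows1_6 : List ℤ := [2, 0, -1, 0, -1, -1, 0, -1, -1, -1, -1, -1, 2, 2, 2, 2, 2, 2, 2, 2, 3, 2, 1, -11]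

/-- A row. -/
def imgRows1_7 : List ℤ := [0, 0, 0, 1, 1, 0, 1, 0, 1, 0, 0, 0, -1, -1, 0, -1, -1, -1, -1, -2, -1, -1, -1, 5]

/-- A row. -/
def imgRows1_8 : List ℤ := [0, 0, 0, 1, 0, 0, 1, 1, 1, 0, 1, 0, -1, -1, -1, -2, -1, -1, -2, -2, -1, -2, -1, 7]

/-- A row. -/
def imgRows1_9 : List ℤ := [0, 1, 0, 0, 1, 1, 1, 0, 1, 0, 1, 0, -1, -2, -2, -2, -2, -1, -1, -2, -2, -2, -1, 8]

/-- A row. -/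
def imgRows1_10 : List ℤ := [2, -1, -1, 0, -1, -1, -1, -1, 0, -1, 0, -1, 2, 2, 2, 2, 2, 2, 2, 2, 2, 2, 2, -11]

/-- A row. -/
def imgRows1_11 : List ℤ := [2, 0, 0, 0, 0, -1, -1, 0, -1, -1, 0, -1, 0, 1, 1, 1, 1, 1, 1, 1, 1, 2, 1, -6]

/-- A row. -/
def imgRows1_12 : List ℤ := [4, -2, -2, -2, -2, -2, -2, -2, -2, -2, -2, -2, 5, 6, 5, 6, 5, 5, 5, 6, 6, 7, 5, -30]

/-- A row. -/
def imgRows1_13 : List ℤ := [4, -2, -2, -2, -2, -2, -2, 0, -2, -2, -2, -2, 4, 6, 4, 5, 5, 4, 4, 5, 5, 6, 5, -26]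

/-- A row. -/
def imgRows1_14 : List ℤ := [4, -2, -2, -2, -2, -2, -2, -2, -2, -2, -2, -2, 5, 6, 5, 6, 5, 5, 6, 6, 6, 6, 5, -30]

/-- A row. -/
def imgRows1_15 : List ℤ := [4, -2, -2, 0, -2, -2, -2, -2, -2, -2, -2, -2, 4, 5, 5, 6, 5, 4, 4, 5, 6, 5, 4, -26]

/-- A row. -/
def imgRows1_16 : List ℤ := [4, -2, -2, -2, -2, -2, -2, -2, -2, -2, 0, -2, 4, 6, 4, 5, 4, 5, 5, 6, 5, 5, 5, -27]

/-- A row. -/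
def imgRows1_17 : List ℤ := [4, -2, -2, -2, 0, -2, -2, -2, -2, -2, -2, -2, 4, 5, 5, 6, 4, 4, 5, 5, 5, 6, 5, -27]

/-- A row. -/
def imgRows1_18 : List ℤ := [4, -2, -2, -2, -2, -2, -2, -2, -2, -2, -2, -2, 5, 6, 6, 6, 5, 5, 5, 6, 6, 6, 5, -30]

/-- A row. -/
def imgRows1_19 : List ℤ := [4, -2, -2, -2, -2, -2, 0, -2, -2, -2, -2, -2, 5, 6, 4, 5, 5, 5, 4, 5, 6, 5, 4, -27]

/-- A row. -/
def imgRows1_20 : List ℤ := [4, -2, -2, -2, -2, -2, -2, -2, 0, -2, -2, -2, 5, 5, 5, 5, 4, 5, 4, 5, 5, 5, 5, -26]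

/-- A row. -/
def imgRows1_21 : List ℤ := [4, -2, -2, -2, -2, -2, -2, -2, -2, -2, -2, -2, 6, 6, 5, 6, 5, 5, 5, 6, 6, 6, 5, -30]

/-- A row. -/
def imgRows1_22 : List ℤ := [4, 0, -2, -2, -2, -2, -2, -2, -2, -2, -2, -2, 4, 5, 4, 5, 4, 5, 5, 5, 6, 6, 4, -26]

/-- A row. -/
def imgRows1_23 : List ℤ := [8, -4, -4, -4, -4, -4, -4, -4, -4, -4, -4, -4, 10, 12, 10, 12, 10, 10, 10, 12, 12, 12, 10, -59]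

/-- Coordinates of the images of the basis. -/
def imgRows1 : List (List ℤ) := [imgRows1_0, imgRows1_1, imgRows1_2, imgRows1_3, imgRows1_4, imgRows1_5, imgRows1_6, imgRows1_7, imgRows1_8, imgRows1_9, imgRows1_10, imgRows1_11, imgRows1_12, imgRows1_13, imgRows1_14, imgRows1_15, imgRows1_16, imgRows1_17, imgRows1_18, imgRows1_19, imgRows1_20, imgRows1_21, imgRows1_22, imgRows1_23]

/-- A row. -/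
def imgRows2_0 : List ℤ := [1, 0, 0, 0, 0, 0, 0, 0, 0, 0, 0, 0, 0, 0, 0, 0, 0, 0, 0, 0, 0, 0, 0, 0]

/-- A row. -/
def imgRows2_1 : List ℤ := [0, 0, 0, 0, 0, 0, 1, 0, 1, 1, 0, 1, 0, -1, -1, -1, -1, -1, -1, -1, -1, -2, -1, 5]

/-- A row. -/
def imgRows2_2 : List ℤ := [0, 1, 0, 0, 1, 0, 0, 0, 0, 1, 0, 0, -1, -1, -1, 0, -1, -1, 0, -1, -1, 0, -1, 4]

/-- A row. -/
def imgRows2_3 : List ℤ := [0, 1, 0, 1, 0, 1, 0, 0, 0, 1, 0, 1, -1, -2, -1, -1, -1, -2, -1, -1, -1, -2, -2, 7]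

/-- A row. -/
def imgRows2_4 : List ℤ := [0, 0, 0, 0, 0, 0, 0, 0, 1, 1, 0, 1, 0, -1, 0, -1, -1, -1, 0, -1, -1, -1, -1, 4]

/-- A row. -/
def imgRows2_5 : List ℤ := [0, 1, 0, 0, 0, 1, 0, 1, 0, 0, 0, 0, -1, -1, -1, -1, 0, -1, -1, -1, -1, 0, 0, 4]

/-- A row. -/
def imgRows2_6 : List ℤ := [0, 1, 1, 0, 0, 1, 0, 0, 0, 0, 0, 1, -1, -2, -1, -1, -1, -1, -1, 0, -1, -1, -1, 5]

/-- A row. -/
def imgRows2_7 : List ℤ := [0, 1, 0, 0, 0, 0, 0, 0, 0, 1, 1, 1, -1, -1, -1, -1, -2, -1, 0, -1, -1, -1, -1, 5]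

/-- A row. -/
def imgRows2_8 : List ℤ := [0, 1, 0, 0, 0, 1, 0, 0, 1, 0, 0, 1, 0, -2, -1, -1, -1, -1, -1, -1, -1, -1, -1, 5]

/-- A row. -/
def imgRows2_9 : List ℤ := [0, 0, 0, 0, 0, 1, 0, 0, 1, 0, 0, 1, 0, -1, 0, -1, -1, -1, -1, 0, -1, -1, 0, 3]

/-- A row. -/
def imgRows2_10 : List ℤ := [0, 0, 0, 0, 0, 1, 0, 0, 1, 1, 0, 0, 0, -1, -1, 0, -1, -1, -1, -1, -1, -1, 0, 4]

/-- A row. -/
def imgRows2_11 : List ℤ := [0, 0, 0, 0, 0, 1, 0, 0, 1, 0, 0, 0, 0, -1, 0, 0, 0, 0, -1, 0, -1, -1, 0, 2]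

/-- A row. -/
def imgRows2_12 : List ℤ := [0, 0, 0, 0, 0, 0, 0, 0, 0, 2, 0, 0, 0, 0, -1, 0, -1, -1, 0, -1, -1, -1, -1, 4]

/-- A row. -/
def imgRows2_13 : List ℤ := [0, 0, 0, 0, 0, 0, 0, 0, 0, 0, 0, 0, 0, 0, 0, 0, 1, 0, 0, 0, 0, 0, 0, 0]

/-- A row. -/
def imgRows2_14 : List ℤ := [0, 0, 0, 0, 0, 0, 0, 0, 0, 0, 0, 0, 0, 0, 0, 0, 0, 0, 0, 0, 0, 0, 1, 0]

/-- A row. -/
def imgRows2_15 : List ℤ := [0, 0, 0, 0, 0, 0, 0, 0, 0, 0, 0, 0, 0, 0, 0, 1, 0, 0, 0, 0, 0, 0, 0, 0]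

/-- A row. -/
def imgRows2_16 : List ℤ := [0, 0, 0, 0, 0, 0, 0, 0, 2, 0, 0, 0, 0, -1, 0, -1, -1, 0, -1, -1, -1, -1, 0, 4]

/-- A row. -/
def imgRows2_17 : List ℤ := [0, 0, 0, 0, 0, 0, 0, 0, 0, 0, 0, 0, 0, 0, 1, 0, 0, 0, 0, 0, 0, 0, 0, 0]

/-- A row. -/
def imgRows2_18 : List ℤ := [0, 2, 0, 0, 0, 0, 0, 0, 0, 0, 0, 0, -1, -1, -1, -1, -1, 0, 0, -1, 0, 0, -1, 4]

/-- A row. -/
def imgRows2_19 : List ℤ := [0, 0, 0, 0, 0, 0, 0, 0, 0, 0, 0, 2, 0, -1, 0, -1, -1, -1, 0, 0, 0, -1, -1, 3]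

/-- A row. -/
def imgRows2_20 : List ℤ := [0, 0, 0, 0, 0, 0, 0, 0, 0, 0, 0, 0, 0, 0, 0, 0, 0, 0, 0, 0, 0, 1, 0, 0]

/-- A row. -/
def imgRows2_21 : List ℤ := [0, 0, 0, 0, 0, 2, 0, 0, 0, 0, 0, 0, 0, -1, -1, 0, 0, -1, -1, 0, -1, -1, 0, 3]

/-- A row. -/
def imgRows2_22 : List ℤ := [0, 0, 0, 0, 0, 0, 0, 0, 0, 0, 0, 0, 0, 0, 0, 0, 0, 0, 0, 1, 0, 0, 0, 0]

/-- A row. -/
def imgRows2_23 : List ℤ := [0, 0, 0, 0, 0, 0, 0, 0, 0, 0, 0, 0, 0, 0, 0, 0, 0, 0, 0, 0, 0, 0, 0, 1]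

/-- Coordinates of the images of the basis. -/
def imgRows2 : List (List ℤ) := [imgRows2_0, imgRows2_1, imgRows2_2, imgRows2_3, imgRows2_4, imgRows2_5, imgRows2_6, imgRows2_7, imgRows2_8, imgRows2_9, imgRows2_10, imgRows2_11, imgRows2_12, imgRows2_13, imgRows2_14, imgRows2_15, imgRows2_16, imgRows2_17, imgRows2_18, imgRows2_19, imgRows2_20, imgRows2_21, imgRows2_22, imgRows2_23]

/-- A row. -/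
def imgRows3_0 : List ℤ := [-1, 1, 1, 1, 1, 1, 1, 1, 1, 1, 1, 1, -3, -3, -3, -3, -3, -3, -3, -3, -3, -3, -3, 15]

/-- A row. -/
def imgRows3_1 : List ℤ := [0, 1, 0, 0, 0, 0, 0, 0, 0, 0, 0, 0, -1, 0, -1, 0, -1, 0, 0, 0, 0, 0, -1, 2]

/-- A row. -/
def imgRows3_2 : List ℤ := [0, 0, 1, 0, 0, 0, 0, 0, 0, 0, 0, 0, -1, 0, 0, 0, 0, 0, -1, 0, 0, 0, -1, 1]

/-- A row. -/
def imgRows3_3 : List ℤ := [0, 0, 0, 1, 0, 0, 0, 0, 0, 0, 0, 0, -1, 0, 0, 0, 0, -1, -1, 0, 0, 0, -1, 2]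

/-- A row. -/
def imgRows3_4 : List ℤ := [0, 0, 0, 0, 1, 0, 0, 0, 0, 0, 0, 0, -1, 0, 0, 0, -1, -1, 0, 0, 0, 0, 0, 1]

/-- A row. -/
def imgRows3_5 : List ℤ := [0, 0, 0, 0, 0, 1, 0, 0, 0, 0, 0, 0, 0, 0, -1, 0, 0, -1, -1, 0, 0, 0, 0, 1]

/-- A row. -/
def imgRows3_6 : List ℤ := [0, 0, 0, 0, 0, 0, 1, 0, 0, 0, 0, 0, 0, 0, -1, 0, 0, 0, -1, 0, 0, 0, -1, 1]

/-- A row. -/
def imgRows3_7 : List ℤ := [0, 0, 0, 0, 0, 0, 0, 1, 0, 0, 0, 0, -1, 0, -1, 0, 0, -1, -1, 0, 0, 0, 0, 2]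

/-- A row. -/
def imgRows3_8 : List ℤ := [0, 0, 0, 0, 0, 0, 0, 0, 1, 0, 0, 0, 0, 0, 0, 0, -1, 0, -1, 0, 0, 0, 0, 1]

/-- A row. -/
def imgRows3_9 : List ℤ := [0, 0, 0, 0, 0, 0, 0, 0, 0, 1, 0, 0, 0, 0, -1, 0, -1, -1, 0, 0, 0, 0, -1, 2]

/-- A row. -/
def imgRows3_10 : List ℤ := [0, 0, 0, 0, 0, 0, 0, 0, 0, 0, 1, 0, -1, 0, -1, 0, -1, 0, 0, 0, 0, 0, 0, 1]

/-- A row. -/
def imgRows3_11 : List ℤ := [0, 0, 0, 0, 0, 0, 0, 0, 0, 0, 0, 1, 0, 0, 0, 0, -1, -1, 0, 0, 0, 0, -1, 1]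

/-- A row. -/
def imgRows3_12 : List ℤ := [0, 0, 0, 0, 0, 0, 0, 0, 0, 0, 0, 0, -1, 0, 0, 0, 0, 0, 0, 0, 0, 0, 0, 0]

/-- A row. -/
def imgRows3_13 : List ℤ := [0, 0, 0, 0, 0, 0, 0, 0, 0, 0, 0, 0, 0, 1, 0, 0, 0, 0, 0, 0, 0, 0, 0, -1]

/-- A row. -/
def imgRows3_14 : List ℤ := [0, 0, 0, 0, 0, 0, 0, 0, 0, 0, 0, 0, 0, 0, -1, 0, 0, 0, 0, 0, 0, 0, 0, 0]

/-- A row. -/
def imgRows3_15 : List ℤ := [0, 0, 0, 0, 0, 0, 0, 0, 0, 0, 0, 0, 0, 0, 0, 1, 0, 0, 0, 0, 0, 0, 0, -1]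

/-- A row. -/
def imgRows3_16 : List ℤ := [0, 0, 0, 0, 0, 0, 0, 0, 0, 0, 0, 0, 0, 0, 0, 0, -1, 0, 0, 0, 0, 0, 0, 0]

/-- A row. -/
def imgRows3_17 : List ℤ := [0, 0, 0, 0, 0, 0, 0, 0, 0, 0, 0, 0, 0, 0, 0, 0, 0, -1, 0, 0, 0, 0, 0, 0]

/-- A row. -/
def imgRows3_18 : List ℤ := [0, 0, 0, 0, 0, 0, 0, 0, 0, 0, 0, 0, 0, 0, 0, 0, 0, 0, -1, 0, 0, 0, 0, 0]

/-- A row. -/
def imgRows3_19 : List ℤ := [0, 0, 0, 0, 0, 0, 0, 0, 0, 0, 0, 0, 0, 0, 0, 0, 0, 0, 0, 1, 0, 0, 0, -1]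

/-- A row. -/
def imgRows3_20 : List ℤ := [0, 0, 0, 0, 0, 0, 0, 0, 0, 0, 0, 0, 0, 0, 0, 0, 0, 0, 0, 0, 1, 0, 0, -1]

/-- A row. -/
def imgRows3_21 : List ℤ := [0, 0, 0, 0, 0, 0, 0, 0, 0, 0, 0, 0, 0, 0, 0, 0, 0, 0, 0, 0, 0, 1, 0, -1]

/-- A row. -/
def imgRows3_22 : List ℤ := [0, 0, 0, 0, 0, 0, 0, 0, 0, 0, 0, 0, 0, 0, 0, 0, 0, 0, 0, 0, 0, 0, -1, 0]

/-- A row. -/
def imgRows3_23 : List ℤ := [0, 0, 0, 0, 0, 0, 0, 0, 0, 0, 0, 0, 0, 0, 0, 0, 0, 0, 0, 0, 0, 0, 0, -1]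

/-- Coordinates of the images of the basis. -/
def imgRows3 : List (List ℤ) := [imgRows3_0, imgRows3_1, imgRows3_2, imgRows3_3, imgRows3_4, imgRows3_5, imgRows3_6, imgRows3_7, imgRows3_8, imgRows3_9, imgRows3_10, imgRows3_11, imgRows3_12, imgRows3_13, imgRows3_14, imgRows3_15, imgRows3_16, imgRows3_17, imgRows3_18, imgRows3_19, imgRows3_20, imgRows3_21, imgRows3_22, imgRows3_23]

/-- A row. -/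
def imgRows4_0 : List ℤ := [3, 0, 0, -2, -2, -2, -2, -2, -2, -2, -2, -2, 3, 4, 4, 4, 4, 5, 4, 5, 5, 6, 3, -23]

/-- A row. -/
def imgRows4_1 : List ℤ := [1, -1, 0, -1, -2, -1, -1, -1, -1, -1, -1, -1, 3, 3, 3, 3, 3, 3, 2, 4, 3, 3, 2, -15]

/-- A row. -/
def imgRows4_2 : List ℤ := [2, 0, -1, -1, -2, -1, -1, -1, -2, -2, -2, -2, 3, 4, 3, 4, 4, 4, 3, 4, 5, 5, 3, -20]

/-- A row. -/
def imgRows4_3 : List ℤ := [0, 0, 0, 0, -1, -1, -1, -1, -1, 0, 0, -1, 1, 2, 1, 2, 1, 2, 2, 2, 2, 2, 1, -8]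

/-- A row. -/
def imgRows4_4 : List ℤ := [1, 0, 0, -1, -1, -1, -1, -1, -1, -1, -1, -1, 2, 2, 2, 2, 2, 3, 2, 3, 3, 3, 1, -12]

/-- A row. -/
def imgRows4_5 : List ℤ := [1, 0, 0, -2, -1, -1, -1, -1, -1, -1, -1, -1, 2, 3, 2, 2, 2, 3, 3, 3, 3, 4, 2, -14]

/-- A row. -/
def imgRows4_6 : List ℤ := [1, 0, 0, -1, -1, -1, -1, -2, -1, -1, -1, -1, 2, 2, 3, 3, 2, 3, 3, 3, 3, 3, 2, -14]

/-- A row. -/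
def imgRows4_7 : List ℤ := [0, 0, 0, -1, 0, -1, -1, 0, -1, -1, -1, -1, 1, 2, 2, 2, 2, 2, 2, 2, 2, 3, 2, -10]

/-- A row. -/
def imgRows4_8 : List ℤ := [0, 0, 0, 0, -1, 0, -1, -1, 0, -1, -1, -1, 1, 1, 2, 2, 2, 2, 1, 2, 2, 2, 1, -8]

/-- A row. -/
def imgRows4_9 : List ℤ := [0, 0, 0, -1, -1, -1, -1, -1, 0, 0, -1, 0, 2, 1, 2, 1, 1, 2, 2, 2, 2, 2, 1, -8]

/-- A row. -/
def imgRows4_10 : List ℤ := [1, 0, 0, -1, -1, -1, -1, -1, -1, -2, -1, -1, 2, 2, 3, 2, 3, 3, 2, 3, 3, 4, 2, -14]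

/-- A row. -/
def imgRows4_11 : List ℤ := [1, 0, 0, -1, -2, -1, -1, -1, -1, -1, -1, 0, 2, 2, 2, 2, 2, 3, 2, 3, 3, 3, 1, -12]

/-- A row. -/
def imgRows4_12 : List ℤ := [2, 0, 0, -1, -1, -1, -1, -1, -2, -1, -1, -2, 2, 3, 2, 3, 3, 3, 2, 3, 3, 4, 2, -15]

/-- A row. -/
def imgRows4_13 : List ℤ := [2, 0, 0, -1, -2, -1, -1, -1, -1, -1, -1, -1, 2, 3, 2, 2, 2, 3, 2, 3, 3, 3, 1, -13]

/-- A row. -/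
def imgRows4_14 : List ℤ := [2, 0, 0, -2, -1, -2, -1, -1, -1, -1, -1, -1, 2, 3, 3, 2, 2, 3, 3, 3, 3, 4, 2, -15]

/-- A row. -/
def imgRows4_15 : List ℤ := [2, 0, 0, -1, -1, -1, -1, -1, -1, -2, -2, -1, 2, 2, 3, 3, 3, 3, 2, 3, 3, 4, 2, -15]

/-- A row. -/
def imgRows4_16 : List ℤ := [2, 0, 0, -1, -2, -1, -1, -1, -1, -1, -1, -1, 2, 2, 2, 2, 3, 3, 2, 3, 3, 3, 1, -13]

/-- A row. -/
def imgRows4_17 : List ℤ := [2, 0, 0, -2, -1, -2, -1, -1, -1, -1, -1, -1, 2, 3, 2, 2, 2, 4, 3, 3, 3, 4, 2, -15]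

/-- A row. -/
def imgRows4_18 : List ℤ := [2, 0, 0, -1, -1, -1, -1, -1, -2, -1, -1, -2, 1, 3, 2, 3, 3, 3, 3, 3, 3, 4, 2, -15]

/-- A row. -/
def imgRows4_19 : List ℤ := [2, 0, 0, -1, -1, -1, -2, -2, -1, -1, -1, -1, 2, 2, 3, 3, 2, 3, 3, 4, 3, 3, 2, -15]

/-- A row. -/
def imgRows4_20 : List ℤ := [2, 0, 0, -1, -1, -1, -1, -1, -1, -2, -2, -1, 2, 2, 3, 2, 3, 3, 2, 3, 4, 4, 2, -15]

/-- A row. -/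
def imgRows4_21 : List ℤ := [2, 0, 0, -1, -1, -1, -2, -2, -1, -1, -1, -1, 2, 2, 3, 3, 2, 3, 3, 3, 3, 4, 2, -15]

/-- A row. -/
def imgRows4_22 : List ℤ := [2, 0, 0, -1, -2, -1, -1, -1, -1, -1, -1, -1, 2, 2, 2, 2, 2, 3, 2, 3, 3, 3, 2, -13]

/-- A row. -/
def imgRows4_23 : List ℤ := [4, 0, 0, -2, -2, -2, -2, -2, -2, -2, -2, -2, 3, 4, 4, 4, 4, 5, 4, 5, 5, 6, 3, -24]

/-- Coordinates of the images of the basis. -/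
def imgRows4 : List (List ℤ) := [imgRows4_0, imgRows4_1, imgRows4_2, imgRows4_3, imgRows4_4, imgRows4_5, imgRows4_6, imgRows4_7, imgRows4_8, imgRows4_9, imgRows4_10, imgRows4_11, imgRows4_12, imgRows4_13, imgRows4_14, imgRows4_15, imgRows4_16, imgRows4_17, imgRows4_18, imgRows4_19, imgRows4_20, imgRows4_21, imgRows4_22, imgRows4_23]

/-- The matrices modulo two. -/
def codes : List ℕ := [0x800000200000100000080000040000020000010000008000004000002000001000e3a000000400630a00000100000080e08840000020000010622808c0a80441a802bcf7fe000001, 0x8000000ea0004740007af000ab9000471000dc6000f680002960004350005980006750005feb60800af6461572d375c8f7b158d00fb49b0c6e1dda2ed7f0d2cfb674f724ca475001, 0x800000080000b66000200000e3a00049f0000040003da0000080004000000100007b40003421203f6320b7a920ffc922fafe02f7d8261ef0a27bab009dda2a5b7212dfeb40000001,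 0x800000400000a00000900000880000040000020000010000808000004000802000001000c30800815400434200850100065080c44040864020831010461008c41004415002ffffff, 0x5a1000ba0fe89ecf388b49f8b6cf389fb6f89c2fd0fb0fe89bc9f89e6fd0fa2fe89ba6f87a07e91b4df941a4f8443ed0201f683ecf791e2ff17a0ff94159f07450ecb3ffebda1001]

end CfsgLib.Schur.Sporadic.Co1
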