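import Cfsg.Agent.Lib.Schur.Co1.Data2
import Cfsg.Agent.Lib.Schur.Co1.ModelData
import Cfsg.Agent.Lib.Schur.TailsMat

/-!
Kernel checks of the data for the 2-part of the multiplier of the first Conway group.
-/

set_option autoImplicit false
set_option maxRecDepth 100000
set_option maxHeartbeats 0

namespace CfsgLib.Schur.Sporadic.Co1

theorem slp2_ok : Tails.Mat.slpM 24 5 slpTab2 slpW2 = true ∧ slpTab2.take 5 = codes := by decide +kernel

theorem pick2_ok : Tails.Mat.pickM 24 slpTab2 ids2 kk2 = true ∧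
    Tails.Mat.pickM 24 slpTab2 gids2 gk2 = true := by decide +kernel

theorem rels2_ok : Tails.Mat.relM 24 kk2 cert2 = true ∧ Tails.Mat.fusM 24 kk2 gk2 cert2 = true := by
  decide +kernel

theorem chain2_ok : Tails.Mat.chainOK 24 kk2 lev2 0 cert2.r (2 ^ 21) = true ∧
    Tails.Mat.chainOK 24 kk2 lev2in cert2.a cert2.r (2 ^ 16) = true := by decide +kernel

theorem cert2_eqs : Tails.Dense.eqsOK cert2 dense2 = true := by decide +kernel

theorem cert2_comb : Tails.Dense.combOK cert2 dense2 = true := by decide +kernel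

theorem cert2_shape : cert2.shapeOK = true ∧ cert2.p = 2 ∧ cert2.r = 21 ∧ cert2.r - cert2.a = 16 ∧
    dense2.b = 2 ∧ ¬ 2 ^ (21 + 1) ∣ 4157776806543360000 ∧ ¬ 2 ∣ 1982582476875 ∧ 4157776806543360000 ∣ dense2.q * 1982582476875 := by decide +kernel

theorem ord_ok : Tails.Mat.pickM 24 slpTab2 ordIds ordK = true ∧
    ((List.range 3).all fun i => Tails.Mat.prodM 24 [ordK.getD i 0] (List.replicate ([11, 13, 23].getD i 0) 0) ==
        Tails.Mat.oneM 24 && !(Tails.Mat.mapp 24 (ordK.getD i 0) (2 ^ 24 - 1) == 2 ^ 24 - 1)) = true ∧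
    ordK.length = 3 := by decide +kernel

end CfsgLib.Schur.Sporadic.Co1
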