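import Cfsg.Agent.Lib.Schur.Co1.Data3
import Cfsg.Agent.Lib.Schur.Co1.ModelData
import Cfsg.Agent.Lib.Schur.TailsMat

/-!
Kernel checks of the data for the 3-part of the multiplier of the first Conway group.
-/

set_option autoImplicit false
set_option maxRecDepth 100000
set_option maxHeartbeats 0

namespace CfsgLib.Schur.Sporadic.Co1

theorem slp3_ok : Tails.Mat.slpM 24 5 slpTab3 slpW3 = true ∧ slpTab3.take 5 = codes := by decide +kernel

theorem pick3_ok : Tails.Mat.pickM 24 slpTab3 ids3 kk3 = true ∧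
    Tails.Mat.pickM 24 slpTab3 gids3 gk3 = true := by decide +kernel

theorem rels3_ok : Tails.Mat.relM 24 kk3 cert3 = true ∧ Tails.Mat.fusM 24 kk3 gk3 cert3 = true := by
  decide +kernel

theorem chain3_ok : Tails.Mat.chainOK 24 kk3 lev3 0 cert3.r (3 ^ 9) = true ∧
    Tails.Mat.chainOK 24 kk3 lev3in cert3.a cert3.r (3 ^ 6) = true := by decide +kernel

theorem cert3_eqs : Tails.Dense.eqsOK cert3 dense3 = true := by decide +kernel

theorem cert3_comb : Tails.Dense.combOK cert3 dense3 = true := by decide +kernel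

theorem cert3_shape : cert3.shapeOK = true ∧ cert3.p = 3 ∧ cert3.r = 9 ∧ cert3.r - cert3.a = 6 ∧
    dense3.b = 1 ∧ ¬ 3 ^ (9 + 1) ∣ 4157776806543360000 ∧ ¬ 3 ∣ 211236945920000 ∧ 4157776806543360000 ∣ dense3.q * 211236945920000 := by decide +kernel

end CfsgLib.Schur.Sporadic.Co1
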