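import Cfsg.Agent.Lib.Schur.Co1.Data5
import Cfsg.Agent.Lib.Schur.Co1.ModelData
import Cfsg.Agent.Lib.Schur.TailsMat

/-!
Kernel checks of the data for the 5-part of the multiplier of the first Conway group.
-/

set_option autoImplicit false
set_option maxRecDepth 100000
set_option maxHeartbeats 0

namespace CfsgLib.Schur.Sporadic.Co1

theorem slp5_ok : Tails.Mat.slpM 24 5 slpTab5 slpW5 = true ∧ slpTab5.take 5 = codes := by decide +kernel

theorem pick5_ok : Tails.Mat.pickM 24 slpTab5 ids5 kk5 = true ∧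
    Tails.Mat.pickM 24 slpTab5 gids5 gk5 = true := by decide +kernel

theorem rels5_ok : Tails.Mat.relM 24 kk5 cert5 = true ∧ Tails.Mat.fusM 24 kk5 gk5 cert5 = true := by
  decide +kernel

theorem chain5_ok : Tails.Mat.chainOK 24 kk5 lev5 0 cert5.r (5 ^ 4) = true ∧
    Tails.Mat.chainOK 24 kk5 lev5in cert5.a cert5.r (5 ^ 2) = true := by decide +kernel

theorem cert5_eqs : Tails.Dense.eqsOK cert5 dense5 = true := by decide +kernel

theorem cert5_comb : Tails.Dense.combOK cert5 dense5 = true := by decide +kernel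

theorem cert5_shape : cert5.shapeOK = true ∧ cert5.p = 5 ∧ cert5.r = 4 ∧ cert5.r - cert5.a = 2 ∧
    dense5.b = 1 ∧ ¬ 5 ^ (4 + 1) ∣ 4157776806543360000 ∧ ¬ 5 ∣ 6652442890469376 ∧ 4157776806543360000 ∣ dense5.q * 6652442890469376 := by decide +kernel

end CfsgLib.Schur.Sporadic.Co1
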