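import Cfsg.Agent.Lib.Schur.Co1.Data7
import Cfsg.Agent.Lib.Schur.Co1.ModelData
import Cfsg.Agent.Lib.Schur.TailsMat

/-!
Kernel checks of the data for the 7-part of the multiplier of the first Conway group.
-/

set_option autoImplicit false
set_option maxRecDepth 100000
set_option maxHeartbeats 0

namespace CfsgLib.Schur.Sporadic.Co1

theorem slp7_ok : Tails.Mat.slpM 24 5 slpTab7 slpW7 = true ∧ slpTab7.take 5 = codes := by decide +kernel

theorem pick7_ok : Tails.Mat.pickM 24 slpTab7 ids7 kk7 = true ∧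
    Tails.Mat.pickM 24 slpTab7 gids7 gk7 = true := by decide +kernel

theorem rels7_ok : Tails.Mat.relM 24 kk7 cert7 = true ∧ Tails.Mat.fusM 24 kk7 gk7 cert7 = true := by
  decide +kernel

theorem chain7_ok : Tails.Mat.chainOK 24 kk7 lev7 0 cert7.r (7 ^ 2) = true ∧
    Tails.Mat.chainOK 24 kk7 lev7in cert7.a cert7.r (7 ^ 0) = true := by decide +kernel

theorem cert7_eqs : Tails.Dense.eqsOK cert7 dense7 = true := by decide +kernel

theorem cert7_comb : Tails.Dense.combOK cert7 dense7 = true := by decide +kernel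

theorem cert7_shape : cert7.shapeOK = true ∧ cert7.p = 7 ∧ cert7.r = 2 ∧ cert7.r - cert7.a = 0 ∧
    dense7.b = 1 ∧ ¬ 7 ^ (2 + 1) ∣ 4157776806543360000 ∧ ¬ 7 ∣ 84852587888640000 ∧ 4157776806543360000 ∣ dense7.q * 84852587888640000 := by decide +kernel

end CfsgLib.Schur.Sporadic.Co1
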