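import Cfsg.Agent.Lib.Schur.Co1.Model
import Cfsg.Agent.Lib.SmallGroups.LeechReach

/-!
Five automorphisms of the lattice and their matrices modulo two.
-/

set_option autoImplicit false
set_option maxRecDepth 100000

namespace CfsgLib.Schur.Sporadic.Co1

open Cfsg CfsgLib.SmallGroups CfsgLib.SmallGroups.Golay CfsgLib.Schur.Tails.Mat CfsgLib.Sporadic.OutCert
open CfsgLib.ThreeTransp CfsgLib.SmallGroups.M24Group

/-- A basis vector as a plain vector. -/
def bvec (j : Fin 24) : GolayPt → ℤ := vecOf (basisRows.getD j.1 [])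

/-- The first automorphism. -/
noncomputable def a0 : Co0 := LeechGen.perm (sgen 0) (sgen_mem 0)

/-- The second automorphism. -/
noncomputable def a1 : Co0 := LeechGen.perm (sgen 1) (sgen_mem 1)

/-- The third automorphism. -/
noncomputable def a2 : Co0 := LeechGen.perm (sgen 2) (sgen_mem 2)

/-- The fourth automorphism. -/
noncomputable def a3 : Co0 := LeechGen.sign (LeechGen.basC 0 (by norm_num))

/-- The fifth automorphism. -/
noncomputable def a4 : Co0 := LeechXi.xi

theorem img_perm0 : ∀ (j : Fin 24) (p : GolayPt),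
    bvec j (sgenFun 0 p) = combI (imgRows0.getD j.1 []) p := by decide +kernel

theorem img_perm1 : ∀ (j : Fin 24) (p : GolayPt),
    bvec j (sgenFun 1 p) = combI (imgRows1.getD j.1 []) p := by decide +kernel

theorem img_perm2 : ∀ (j : Fin 24) (p : GolayPt),
    bvec j (sgenFun 2 p) = combI (imgRows2.getD j.1 []) p := by decide +kernel

theorem img_sign : ∀ (j : Fin 24) (p : GolayPt),
    (if word (bas 0) p = 0 then bvec j p else -bvec j p) = combI (imgRows3.getD j.1 []) p := by decide +kernel

theorem img_xi : ∀ (j : Fin 24) (p : GolayPt),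
    LeechXi.dblHom (bvec j) p = 2 * combI (imgRows4.getD j.1 []) p := by decide +kernel

theorem cols_ok : ∀ j : Fin 24,
    lk 24 (codes.getD 0 0) j.1 = bitsI (imgRows0.getD j.1 []) ∧
    lk 24 (codes.getD 1 0) j.1 = bitsI (imgRows1.getD j.1 []) ∧
    lk 24 (codes.getD 2 0) j.1 = bitsI (imgRows2.getD j.1 []) ∧
    lk 24 (codes.getD 3 0) j.1 = bitsI (imgRows3.getD j.1 []) ∧
    lk 24 (codes.getD 4 0) j.1 = bitsI (imgRows4.getD j.1 []) := by decide +kernel

theorem rep_a0 : RepM 24 (codes.getD 0 0) (psi (a0 : Spor.Co1)) :=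
  rep_of_columns a0 _ imgRows0 (fun j => Subtype.ext (funext fun p => by
    rw [coe_comb, ← img_perm0 j p, a0, LeechGen.perm_apply, sgen_apply]; rfl)) fun j => (cols_ok j).1

theorem rep_a1 : RepM 24 (codes.getD 1 0) (psi (a1 : Spor.Co1)) :=
  rep_of_columns a1 _ imgRows1 (fun j => Subtype.ext (funext fun p => by
    rw [coe_comb, ← img_perm1 j p, a1, LeechGen.perm_apply, sgen_apply]; rfl)) fun j => (cols_ok j).2.1

theorem rep_a2 : RepM 24 (codes.getD 2 0) (psi (a2 : Spor.Co1)) :=
  rep_of_columns a2 _ imgRows2 (fun j => Subtype.ext (funext fun p => by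
    rw [coe_comb, ← img_perm2 j p, a2, LeechGen.perm_apply, sgen_apply]; rfl)) fun j => (cols_ok j).2.2.1

theorem rep_a3 : RepM 24 (codes.getD 3 0) (psi (a3 : Spor.Co1)) :=
  rep_of_columns a3 _ imgRows3 (fun j => Subtype.ext (funext fun p => by
    rw [coe_comb, ← img_sign j p, a3, LeechGen.sign_apply]; rfl)) fun j => (cols_ok j).2.2.2.1

theorem rep_a4 : RepM 24 (codes.getD 4 0) (psi (a4 : Spor.Co1)) :=
  rep_of_columns a4 _ imgRows4 (fun j => Subtype.ext (funext fun p => by
    have h1 : (2 : ℤ) * ((a4 • bL j : leechLattice) : GolayPt → ℤ) p = LeechXi.dblHom (bvec j) p :=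
      congrFun (LeechXi.two_xi (bL j)) p
    have h2 := img_xi j p
    rw [coe_comb]
    omega)) fun j => (cols_ok j).2.2.2.2

/-- The five automorphisms. -/
noncomputable def aGen : ℕ → Co0
  | 0 => a0
  | 1 => a1
  | 2 => a2
  | 3 => a3
  | _ => a4

/-- Their coordinate rows. -/
def imgRows : ℕ → List (List ℤ)
  | 0 => imgRows0
  | 1 => imgRows1
  | 2 => imgRows2
  | 3 => imgRows3
  | _ => imgRows4

theorem aGen_bL (k : ℕ) (j : Fin 24) : aGen k • bL j = comb (row ((imgRows k).getD j.1 [])) := by
  refine Subtype.ext (funext fun p => ?_)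
  rw [coe_comb]
  match k with
  | 0 => rw [imgRows, ← img_perm0 j p, aGen, a0, LeechGen.perm_apply, sgen_apply]; rfl
  | 1 => rw [imgRows, ← img_perm1 j p, aGen, a1, LeechGen.perm_apply, sgen_apply]; rfl
  | 2 => rw [imgRows, ← img_perm2 j p, aGen, a2, LeechGen.perm_apply, sgen_apply]; rfl
  | 3 => rw [imgRows, ← img_sign j p, aGen, a3, LeechGen.sign_apply]; rfl
  | n + 4 =>
    show ((a4 • bL j : leechLattice) : GolayPt → ℤ) p = combI (imgRows4.getD j.1 []) p
    have h1 : (2 : ℤ) * ((a4 • bL j : leechLattice) : GolayPt → ℤ) p = LeechXi.dblHom (bvec j) p :=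
      congrFun (LeechXi.two_xi (bL j)) p
    have h2 := img_xi j p
    omega

/-- The coordinates after applying an automorphism. -/
def stepC (k : ℕ) (c : List ℤ) : List ℤ :=
  List.ofFn fun i : Fin 24 => ∑ j : Fin 24, row c j * row ((imgRows k).getD j.1 []) i

theorem smul_comb (k : ℕ) (c : List ℤ) : aGen k • comb (row c) = comb (row (stepC k c)) := by
  have e : row (stepC k c) = fun i => ∑ j : Fin 24, row c j * row ((imgRows k).getD j.1 []) i := funext fun i => by
    rw [stepC, row, List.getD_eq_getElem _ _ (by simp), List.getElem_ofFn]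
  rw [comb, ← LeechModule.actHom_apply, map_sum, e]
  simp only [comb, Finset.sum_smul]
  rw [Finset.sum_comm]
  refine Finset.sum_congr rfl fun j _ => ?_
  rw [map_zsmul, LeechModule.actHom_apply, aGen_bL, comb, Finset.smul_sum]
  simp only [mul_smul]

/-- The product of a word. -/
noncomputable def wordG (l : List ℕ) : Co0 := (l.map aGen).prod

theorem smul_comb_word : ∀ (l : List ℕ) (c : List ℤ),
    wordG l • comb (row c) = comb (row (l.foldr stepC c))
  | [], c => by simp [wordG]
  | k :: l, c => by
    rw [show wordG (k :: l) = aGen k * wordG l by simp [wordG], mul_smul, smul_comb_word l c, smul_comb,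
      List.foldr_cons]

/-- A word whose square is the negation. -/
def minusW : List ℕ := [0, 0, 3, 1, 3, 0, 1, 3]

theorem minus_ok : ∀ j i : Fin 24,
    row ((minusW ++ minusW).foldr stepC (List.ofFn fun a : Fin 24 => if a = j then (1 : ℤ) else 0)) i =
      if i = j then -1 else 0 := by decide +kernel

theorem minusW_sq : ((wordG minusW * wordG minusW : Co0) : Equiv.Perm leechLattice) = LeechCenter.negLat := by
  have hb : ∀ j, (wordG minusW * wordG minusW) • bL j = -bL j := by
    intro j
    have h1 : bL j = comb (row (List.ofFn fun a : Fin 24 => if a = j then (1 : ℤ) else 0)) := by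
      have e : row (List.ofFn fun a : Fin 24 => if a = j then (1 : ℤ) else 0) = fun a => if a = j then (1 : ℤ) else 0 :=
        funext fun a => by rw [row, List.getD_eq_getElem _ _ (by simp), List.getElem_ofFn]
      rw [e]
      simp [comb]
    have h2 : wordG minusW * wordG minusW = wordG (minusW ++ minusW) := by simp [wordG]
    conv_lhs => rw [h1, h2, smul_comb_word, show row _ = _ from funext (minus_ok j)]
    simp [comb]
  refine Equiv.ext fun v => ?_
  obtain ⟨c, rfl⟩ := mem_span v
  show (wordG minusW * wordG minusW) • comb c = -comb c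
  rw [← LeechModule.actHom_apply, comb, map_sum, ← Finset.sum_neg_distrib]
  refine Finset.sum_congr rfl fun j _ => ?_
  rw [map_zsmul, LeechModule.actHom_apply, hb, smul_neg]

theorem base_mem {tab : List ℕ} (h : tab.take 5 = codes) :
    ∀ i < 5, ∃ q : Spor.Co1, RepM 24 (tab.getD i (oneM 24)) (psi q) := by
  intro i hi
  have h0 : tab.getD i (oneM 24) = (tab.take 5).getD i (oneM 24) := by
    simp [List.getD_eq_getElem?_getD, hi]
  have hlen : i < codes.length := by simpa [codes] using hi
  rw [h0, h, List.getD_eq_getElem _ _ hlen, ← List.getD_eq_getElem _ 0 hlen]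
  interval_cases i
  · exact ⟨_, rep_a0⟩
  · exact ⟨_, rep_a1⟩
  · exact ⟨_, rep_a2⟩
  · exact ⟨_, rep_a3⟩
  · exact ⟨_, rep_a4⟩

end CfsgLib.Schur.Sporadic.Co1
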