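import Cfsg.Agent.Lib.Schur.Co1.Gens
import Cfsg.Agent.Lib.Schur.Co1.Check2
import Cfsg.Agent.Lib.Schur.Co1.Check3
import Cfsg.Agent.Lib.Schur.Co1.Check5
import Cfsg.Agent.Lib.Schur.Co1.Check7
import Mathlib.GroupTheory.SpecificGroups.Cyclic

/-!
The multiplier of the first Conway group has order two.
-/

set_option autoImplicit false
set_option maxRecDepth 100000

namespace CfsgLib.Schur.Sporadic.Co1

open Cfsg CfsgLib.SmallGroups CfsgLib.Schur.Tails.Mat CfsgLib.Sporadic.OutCert
open scoped commutatorElement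

attribute [local irreducible] lk pkF mapp mmul slpTab2 slpTab3 slpTab5 slpTab7 kk2 kk3 kk5 kk7 gk2 gk3 gk5 gk7 ordK

theorem card_Co1 : Nat.card Spor.Co1 = 4157776806543360000 := LeechSimple.card_quotient_center

theorem factorization_two (Γ : Type) [Group Γ] [Finite Γ] (σ : Γ →* Spor.Co1) (hσ : Cfsg.IsStemExtension σ) :
    (Nat.card σ.ker).factorization 2 ≤ (2 : ℕ).factorization 2 := by
  haveI := Fact.mk Nat.prime_two
  haveI : Finite Spor.Co1 := Nat.finite_of_card_ne_zero (by rw [card_Co1]; norm_num)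
  obtain ⟨hs, hDp, hr, ha, hb, hQ, hm, hqc⟩ := cert2_shape
  have hslp := exists_slp psi (base_mem slp2_ok.2) slp2_ok.1
  have := factorization_of_mat psi psi_injective cert2 dense2
    (exists_pick psi hslp pick2_ok.1) (exists_pick psi hslp pick2_ok.2)
    cert2_eqs cert2_comb hs rels2_ok.1 rels2_ok.2 (p := 2) hDp hr ha chain2_ok.1 chain2_ok.2
    card_Co1 hQ hm hqc Γ σ hσ
  rwa [hb] at this

theorem factorization_three (Γ : Type) [Group Γ] [Finite Γ] (σ : Γ →* Spor.Co1) (hσ : Cfsg.IsStemExtension σ) :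
    (Nat.card σ.ker).factorization 3 = 0 := by
  haveI := Fact.mk Nat.prime_three
  haveI : Finite Spor.Co1 := Nat.finite_of_card_ne_zero (by rw [card_Co1]; norm_num)
  obtain ⟨hs, hDp, hr, ha, hb, hQ, hm, hqc⟩ := cert3_shape
  have hslp := exists_slp psi (base_mem slp3_ok.2) slp3_ok.1
  have := factorization_of_mat psi psi_injective cert3 dense3
    (exists_pick psi hslp pick3_ok.1) (exists_pick psi hslp pick3_ok.2)
    cert3_eqs cert3_comb hs rels3_ok.1 rels3_ok.2 (p := 3) hDp hr ha chain3_ok.1 chain3_ok.2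
    card_Co1 hQ hm hqc Γ σ hσ
  simpa [hb] using this

theorem factorization_five (Γ : Type) [Group Γ] [Finite Γ] (σ : Γ →* Spor.Co1) (hσ : Cfsg.IsStemExtension σ) :
    (Nat.card σ.ker).factorization 5 = 0 := by
  haveI := Fact.mk (show Nat.Prime 5 by norm_num)
  haveI : Finite Spor.Co1 := Nat.finite_of_card_ne_zero (by rw [card_Co1]; norm_num)
  obtain ⟨hs, hDp, hr, ha, hb, hQ, hm, hqc⟩ := cert5_shape
  have hslp := exists_slp psi (base_mem slp5_ok.2) slp5_ok.1
  have := factorization_of_mat psi psi_injective cert5 dense5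
    (exists_pick psi hslp pick5_ok.1) (exists_pick psi hslp pick5_ok.2)
    cert5_eqs cert5_comb hs rels5_ok.1 rels5_ok.2 (p := 5) hDp hr ha chain5_ok.1 chain5_ok.2
    card_Co1 hQ hm hqc Γ σ hσ
  simpa [hb] using this

theorem factorization_seven (Γ : Type) [Group Γ] [Finite Γ] (σ : Γ →* Spor.Co1) (hσ : Cfsg.IsStemExtension σ) :
    (Nat.card σ.ker).factorization 7 = 0 := by
  haveI := Fact.mk (show Nat.Prime 7 by norm_num)
  haveI : Finite Spor.Co1 := Nat.finite_of_card_ne_zero (by rw [card_Co1]; norm_num)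
  obtain ⟨hs, hDp, hr, ha, hb, hQ, hm, hqc⟩ := cert7_shape
  have hslp := exists_slp psi (base_mem slp7_ok.2) slp7_ok.1
  have := factorization_of_mat psi psi_injective cert7 dense7
    (exists_pick psi hslp pick7_ok.1) (exists_pick psi hslp pick7_ok.2)
    cert7_eqs cert7_comb hs rels7_ok.1 rels7_ok.2 (p := 7) hDp hr ha chain7_ok.1 chain7_ok.2
    card_Co1 hQ hm hqc Γ σ hσ
  simpa [hb] using this

theorem factorization_big (Γ : Type) [Group Γ] [Finite Γ] (σ : Γ →* Spor.Co1) (hσ : Cfsg.IsStemExtension σ)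
    {m : ℕ} (hmp : m.Prime) {j : ℕ} (hj : j < 3) (hm : [11, 13, 23].getD j 0 = m)
    (hm2 : ¬ m ^ 2 ∣ 4157776806543360000) : (Nat.card σ.ker).factorization m = 0 := by
  haveI := Fact.mk hmp
  haveI : Finite Spor.Co1 := Nat.finite_of_card_ne_zero (by rw [card_Co1]; norm_num)
  obtain ⟨h1, h2, h3⟩ := ord_ok
  have h := List.all_eq_true.1 h2 j (List.mem_range.2 hj)
  simp only [Bool.and_eq_true, Bool.not_eq_true', beq_eq_false_iff_ne, beq_iff_eq, hm] at h
  have hmem := exists_pick psi (exists_slp psi (base_mem slp2_ok.2) slp2_ok.1) h1 j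
  have hd : ordK.getD j (oneM 24) = ordK.getD j 0 := by
    rw [List.getD_eq_getElem _ _ (h3 ▸ hj), List.getD_eq_getElem _ _ (h3 ▸ hj)]
  rw [hd] at hmem
  obtain ⟨q, hq⟩ := Tails.Mat.exists_orderOf psi psi_injective hmem h.1 h.2
  exact Tails.factorization_card_ker_of_orderOf σ hσ q (k := 1) (by rw [hq, pow_one])
    (by rwa [card_Co1])

theorem card_ker_le (Γ : Type) [Group Γ] [Finite Γ] (σ : Γ →* Spor.Co1) (hσ : Cfsg.IsStemExtension σ) :
    Nat.card σ.ker ≤ 2 := by
  haveI : Finite Spor.Co1 := Nat.finite_of_card_ne_zero (by rw [card_Co1]; norm_num)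
  refine Tails.card_ker_le σ hσ two_ne_zero fun p hp hd => ?_
  rw [card_Co1] at hd
  have h1 : p ∣ 2 ^ 21 * 3 ^ 9 * 5 ^ 4 * 7 ^ 2 * 11 * 13 * 23 := hd
  have q : ∀ r : ℕ, r.Prime → p ∣ r → p = r := fun r hr h => (Nat.prime_dvd_prime_iff_eq hp hr).1 h
  simp only [Nat.Prime.dvd_mul hp] at h1
  rcases h1 with (((((h1 | h1) | h1) | h1) | h1) | h1) | h1
  · rw [q 2 Nat.prime_two (hp.dvd_of_dvd_pow h1)]; exact factorization_two Γ σ hσ
  · rw [q 3 Nat.prime_three (hp.dvd_of_dvd_pow h1), factorization_three Γ σ hσ]; exact Nat.zero_le _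
  · rw [q 5 (by norm_num) (hp.dvd_of_dvd_pow h1), factorization_five Γ σ hσ]; exact Nat.zero_le _
  · rw [q 7 (by norm_num) (hp.dvd_of_dvd_pow h1), factorization_seven Γ σ hσ]; exact Nat.zero_le _
  · rw [q 11 (by norm_num) h1, factorization_big Γ σ hσ (m := 11) (j := 0) (by norm_num) (by norm_num) rfl (by norm_num)]
    exact Nat.zero_le _
  · rw [q 13 (by norm_num) h1, factorization_big Γ σ hσ (m := 13) (j := 1) (by norm_num) (by norm_num) rfl (by norm_num)]
    exact Nat.zero_le _
  · rw [q 23 (by norm_num) h1, factorization_big Γ σ hσ (m := 23) (j := 2) (by norm_num) (by norm_num) rfl (by norm_num)]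
    exact Nat.zero_le _

theorem cover : Cfsg.IsStemExtension (QuotientGroup.mk' (Subgroup.center Co0)) := by
  haveI := LeechSimple.isSimpleGroup_quotient
  haveI : Finite Spor.Co1 := Nat.finite_of_card_ne_zero (by rw [card_Co1]; norm_num)
  refine ⟨QuotientGroup.mk'_surjective _, (QuotientGroup.ker_mk' _).le, ?_⟩
  rw [QuotientGroup.ker_mk']
  have htop : commutator Co0 ⊔ Subgroup.center Co0 = ⊤ := by
    rcases LeechSimple.normal_cases (commutator Co0 ⊔ Subgroup.center Co0) inferInstance le_sup_right with h | h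
    · exfalso
      have hcomm : ∀ a b : Spor.Co1, a * b = b * a := by
        intro a b
        induction a using QuotientGroup.induction_on with
        | H a =>
          induction b using QuotientGroup.induction_on with
          | H b =>
            have hm : ⁅a, b⁆ ∈ Subgroup.center Co0 := h.le (Subgroup.mem_sup_left
              (Subgroup.commutator_mem_commutator (Subgroup.mem_top a) (Subgroup.mem_top b)))
            have := (QuotientGroup.eq_one_iff _).2 hm
            rw [← QuotientGroup.mk'_apply, map_commutatorElement] at this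
            exact commutatorElement_eq_one_iff_mul_comm.1 this
      letI : CommGroup Spor.Co1 := { (inferInstance : Group Spor.Co1) with mul_comm := hcomm }
      have := IsSimpleGroup.prime_card (α := Spor.Co1)
      rw [card_Co1] at this
      norm_num at this
    · exact h
  have hneg : wordG minusW * wordG minusW ∈ commutator Co0 := by
    have hmem : wordG minusW ∈ ((commutator Co0 ⊔ Subgroup.center Co0 : Subgroup Co0) : Set Co0) := by
      rw [htop]; trivial
    rw [Subgroup.mul_normal] at hmem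
    obtain ⟨c, hc, z, hz, e⟩ := Set.mem_mul.1 hmem
    have hz2 : z * z = 1 := by
      rcases LeechCenter.central_cases hz with h | h
      · exact Subtype.ext (by rw [Subgroup.coe_mul, h, one_mul]; rfl)
      · exact Subtype.ext (by rw [Subgroup.coe_mul, h]; exact Equiv.ext fun v => neg_neg v)
    have : wordG minusW * wordG minusW = c * c := by
      rw [← e]
      have hzc := Subgroup.mem_center_iff.1 hz c
      calc c * z * (c * z) = c * (z * c) * z := by group
        _ = c * (c * z) * z := by rw [← hzc]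
        _ = c * c := by rw [mul_assoc, mul_assoc, hz2, mul_one]
    rw [this]
    exact mul_mem hc hc
  intro g hg
  rcases LeechCenter.central_cases hg with h | h
  · rw [show g = 1 from Subtype.ext h]; exact one_mem _
  · rw [show g = wordG minusW * wordG minusW from Subtype.ext (h.trans minusW_sq.symm)]; exact hneg

theorem hasMultiplier : Cfsg.HasCyclicSchurMultiplier Spor.Co1 2 := by
  haveI : Finite Spor.Co1 := Nat.finite_of_card_ne_zero (by rw [card_Co1]; norm_num)
  have hk : Nat.card (QuotientGroup.mk' (Subgroup.center Co0)).ker = 2 := by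
    rw [QuotientGroup.ker_mk', LeechCenter.card_center_Co0]
  haveI : Fact (Nat.Prime 2) := ⟨Nat.prime_two⟩
  exact Basic.hasSchurMultiplier_of_le _ cover (mulEquivOfPrimeCardEq (p := 2) hk (by simp [Nat.card_eq_fintype_card]))
    fun Δ _ _ τ hτ => (card_ker_le Δ τ hτ).trans (le_of_eq (by simp [Nat.card_eq_fintype_card]))

end CfsgLib.Schur.Sporadic.Co1
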