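import Cfsg.Agent.Lib.Schur.Co1.ModelData
import Cfsg.Agent.Lib.Schur.TailsMat
import Cfsg.Agent.Lib.Sporadic.LeechModTwo
import Cfsg.Agent.Lib.ThreeTransp.LeechModule
import Cfsg.Agent.Lib.SmallGroups.LeechSimple

/-!
The automorphism group of the rank 24 lattice modulo its centre as a group of matrices modulo two.
-/

set_option autoImplicit false
set_option maxRecDepth 100000

namespace CfsgLib.Schur.Sporadic.Co1

open Cfsg CfsgLib.SmallGroups CfsgLib.SmallGroups.Golay CfsgLib.Schur.Tails.Mat CfsgLib.Sporadic.OutCert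
open CfsgLib.ThreeTransp

/-- A vector from its list of coordinates. -/
def vecOf (l : List ℤ) : GolayPt → ℤ := fun p => l.getD (idx p) 0

theorem basis_good : ∀ j : Fin 24,
    LeechReach.okGood (basisPar.getD j.1 0) (vecOf (basisRows.getD j.1 [])) = true := by decide +kernel

/-- A basis vector. -/
def bL (j : Fin 24) : leechLattice :=
  ⟨vecOf (basisRows.getD j.1 []), LeechBasic.mem_lattice.2 (LeechReach.good_of_ok (basis_good j))⟩

/-- A combination of the basis vectors. -/
noncomputable def comb (c : Fin 24 → ℤ) : leechLattice := ∑ j, c j • bL j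

/-- A row of coordinates. -/
def row (l : List ℤ) : Fin 24 → ℤ := fun j => l.getD j.1 0

/-- The coordinates of a combination, computed. -/
def combI (l : List ℤ) (p : GolayPt) : ℤ := ∑ j : Fin 24, row l j * vecOf (basisRows.getD j.1 []) p

theorem coe_comb (l : List ℤ) (p : GolayPt) :
    ((comb (row l) : leechLattice) : GolayPt → ℤ) p = combI l p := by
  simp [comb, combI, bL, AddSubgroup.val_finsetSum, Finset.sum_apply]

theorem gens_ok : (∀ i < 23, ∀ p, LeechGen.avec (pt i) p = combI (genRows.getD i []) p) ∧
    (∀ p, (if p = none then (8 : ℤ) else 0) = combI (genRows.getD 23 []) p) ∧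
    (∀ p, LeechGen.nuVec p = combI (genRows.getD 24 []) p) ∧
    ∀ k < 12, ∀ p, LeechGen.fvec (word (bas k)) p = combI (genRows.getD (25 + k) []) p := by
  decide +kernel

theorem mem_span (x : leechLattice) : ∃ c, comb c = x := by
  let S : AddSubgroup leechLattice :=
    { carrier := Set.range comb
      zero_mem' := ⟨0, by simp [comb]⟩
      add_mem' := by
        rintro _ _ ⟨a, rfl⟩ ⟨b, rfl⟩
        exact ⟨a + b, by simp [comb, add_smul, Finset.sum_add_distrib]⟩
      neg_mem' := by
        rintro _ ⟨a, rfl⟩
        exact ⟨-a, by simp [comb]⟩ }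
  refine LeechGen.gen_induction S (fun p => ?_) ?_ ?_ (fun k hk => ?_) x
  · cases p with
    | none => rw [LeechGen.aL_none]; exact zero_mem S
    | some i =>
      refine ⟨row (genRows.getD i.val []), Subtype.ext (funext fun p => ?_)⟩
      rw [coe_comb, ← gens_ok.1 i.val (ZMod.val_lt i) p]
      show _ = LeechGen.avec (some i) p
      rw [show pt i.val = some i from pt_idx (some i)]
  · refine ⟨row (genRows.getD 23 []), Subtype.ext (funext fun p => ?_)⟩
    rw [coe_comb, ← gens_ok.2.1 p, LeechGen.wL_apply]
  · exact ⟨row (genRows.getD 24 []), Subtype.ext (funext fun p => by rw [coe_comb, ← gens_ok.2.2.1 p]; rfl)⟩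
  · exact ⟨row (genRows.getD (25 + k) []),
      Subtype.ext (funext fun p => by rw [coe_comb, ← gens_ok.2.2.2 k hk p]; rfl)⟩

/-- The lattice as a module. -/
abbrev L : Submodule ℤ (GolayPt → ℤ) := CfsgLib.Sporadic.LeechModTwo.L

/-- The vectors of the basis in the module. -/
def bM (j : Fin 24) : L := ⟨(bL j : GolayPt → ℤ), (bL j).2⟩

theorem span_bM : ⊤ ≤ Submodule.span ℤ (Set.range bM) := by
  intro x _
  obtain ⟨c, hc⟩ := mem_span ⟨x.1, x.2⟩
  have : x = ∑ j, c j • bM j := Subtype.ext (by
    have h := congrArg Subtype.val hc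
    simp only [comb, AddSubgroup.val_finsetSum, AddSubgroupClass.coe_zsmul] at h
    simp only [bM, AddSubmonoidClass.coe_finsetSum, Submodule.coe_smul]
    exact h.symm)
  exact this ▸ Submodule.sum_mem _ fun j _ => Submodule.smul_mem _ _ (Submodule.subset_span ⟨j, rfl⟩)

/-- The basis. -/
noncomputable def bas24 : Module.Basis (Fin 24) ℤ L :=
  basisOfTopLeSpanOfCardEqFinrank bM span_bM
    (by rw [Fintype.card_fin, CfsgLib.Sporadic.LeechModTwo.finrank_L])

/-- The coordinates modulo two. -/
noncomputable def kap : leechLattice →+ (Fin 24 → ZMod 2) where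
  toFun v := fun j => (bas24.repr ⟨v.1, v.2⟩ j : ZMod 2)
  map_zero' := funext fun j => by
    show ((bas24.repr (0 : L) j : ℤ) : ZMod 2) = 0
    simp
  map_add' u v := funext fun j => by
    show ((bas24.repr ((⟨u.1, u.2⟩ : L) + ⟨v.1, v.2⟩) j : ℤ) : ZMod 2) = _
    simp

theorem kap_comb (c : Fin 24 → ℤ) : kap (comb c) = fun j => (c j : ZMod 2) := by
  funext i
  have h : (⟨(comb c).1, (comb c).2⟩ : L) = ∑ j, c j • bas24 j := Subtype.ext (by
    simp [comb, bas24, bM, AddSubgroup.val_finsetSum])
  show ((bas24.repr ⟨(comb c).1, (comb c).2⟩ i : ℤ) : ZMod 2) = _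
  rw [h, bas24.repr_sum_self]

theorem exists_half_of_kap {v : leechLattice} (h : kap v = 0) : ∃ w : leechLattice, v = w + w := by
  obtain ⟨c, rfl⟩ := mem_span v
  rw [kap_comb] at h
  refine ⟨comb fun j => c j / 2, ?_⟩
  simp only [comb, ← Finset.sum_add_distrib, ← add_smul]
  refine Finset.sum_congr rfl fun j _ => congrArg (· • bL j) ?_
  have := (ZMod.intCast_zmod_eq_zero_iff_dvd (c j) 2).1 (congrFun h j)
  omega

theorem add_self_zero (a : Fin 24 → ZMod 2) : a + a = 0 := funext fun i => CharTwo.add_self_eq_zero (a i)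

theorem kap_smul_congr (g : Co0) {u v : leechLattice} (h : kap u = kap v) : kap (g • u) = kap (g • v) := by
  obtain ⟨w, hw⟩ := exists_half_of_kap (v := u - v) (by rw [map_sub, h, sub_self])
  rw [← sub_eq_zero, ← map_sub, ← LeechModule.actHom_apply, ← LeechModule.actHom_apply, ← map_sub, hw,
    map_add, map_add, add_self_zero]

/-- A lift. -/
noncomputable def lift (x : Fin 24 → ZMod 2) : leechLattice := comb fun j => ((x j).val : ℤ)

theorem kap_lift (x : Fin 24 → ZMod 2) : kap (lift x) = x := by
  rw [lift, kap_comb]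
  funext j
  simp [ZMod.natCast_zmod_val]

/-- The action on the classes modulo two. -/
noncomputable def actV (g : Co0) (x : Fin 24 → ZMod 2) : Fin 24 → ZMod 2 := kap (g • lift x)

theorem actV_mul (g h : Co0) (x : Fin 24 → ZMod 2) : actV (g * h) x = actV g (actV h x) := by
  rw [actV, actV, mul_smul]
  exact kap_smul_congr g (kap_lift _).symm

theorem actV_one (x : Fin 24 → ZMod 2) : actV 1 x = x := by rw [actV, one_smul, kap_lift]

/-- The number of a class. -/
def num (x : Fin 24 → ZMod 2) : ℕ := Nat.ofBits fun i : Fin 24 => decide (x i ≠ 0)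

/-- The classes as numbers. -/
def numEquiv : (Fin 24 → ZMod 2) ≃ Fin (2 ^ 24) where
  toFun x := ⟨num x, Nat.ofBits_lt_two_pow _⟩
  invFun n := fun i => if n.1.testBit i.1 then 1 else 0
  left_inv x := funext fun i => by
    have key : ∀ a : ZMod 2, (if decide (a ≠ 0) = true then (1 : ZMod 2) else 0) = a := by decide
    simp only [num, Nat.testBit_ofBits_lt _ i.1 i.2]
    exact key (x i)
  right_inv n := Fin.ext (Nat.eq_of_testBit_eq fun i => by
    simp only [num]
    by_cases hi : i < 24
    · rw [Nat.testBit_ofBits_lt _ i hi]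
      have key : ∀ b : Bool, decide ((if b = true then (1 : ZMod 2) else 0) ≠ 0) = b := by decide
      exact key _
    · rw [Nat.testBit_ofBits_ge _ i (by omega), Nat.testBit_lt_two_pow]
      exact lt_of_lt_of_le n.2 (Nat.pow_le_pow_right (by norm_num) (by omega)))

theorem num_zero : num 0 = 0 :=
  Nat.eq_of_testBit_eq fun i => by
    by_cases hi : i < 24
    · simp [num, Nat.testBit_ofBits_lt _ i hi]
    · have h : 24 ≤ i := by omega
      simp [num, Nat.testBit_ofBits_ge _ i h]

theorem num_add (x y : Fin 24 → ZMod 2) : num (x + y) = num x ^^^ num y := by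
  refine Nat.eq_of_testBit_eq fun i => ?_
  rw [Nat.testBit_xor]
  by_cases hi : i < 24
  · have key : ∀ a b : ZMod 2, decide (a + b ≠ 0) = ((decide (a ≠ 0)) ^^ (decide (b ≠ 0))) := by decide
    simp only [num, Nat.testBit_ofBits_lt _ i hi, Pi.add_apply]
    exact key _ _
  · have h : 24 ≤ i := by omega
    simp only [num, Nat.testBit_ofBits_ge _ i h]
    rfl

/-- The representation of the automorphism group. -/
noncomputable def rep0 : Co0 →* Equiv.Perm (Fin (2 ^ 24)) where
  toFun g := numEquiv.permCongr
    { toFun := actV g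
      invFun := actV g⁻¹
      left_inv := fun x => by rw [← actV_mul, inv_mul_cancel, actV_one]
      right_inv := fun x => by rw [← actV_mul, mul_inv_cancel, actV_one] }
  map_one' := Equiv.ext fun x => by simp [Equiv.permCongr_apply, actV_one]
  map_mul' g h := Equiv.ext fun x => by simp [Equiv.permCongr_apply, actV_mul]

theorem rep0_apply (g : Co0) (x : Fin (2 ^ 24)) :
    (rep0 g x : ℕ) = num (actV g (numEquiv.symm x)) := rfl

theorem ker_rep0 : rep0.ker = Subgroup.center Co0 := by
  ext g
  rw [MonoidHom.mem_ker]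
  constructor
  · intro h
    refine LeechModule.central_of_trivial g fun v => exists_half_of_kap ?_
    have : actV g (kap v) = kap v := by
      have := rep0_apply g (numEquiv (kap v))
      rw [h, Equiv.symm_apply_apply] at this
      exact (numEquiv.injective (Fin.ext this)).symm
    rw [actV, kap_smul_congr g (kap_lift (kap v))] at this
    rw [map_sub, this, sub_self]
  · intro h
    refine Equiv.ext fun x => Fin.ext ?_
    rw [rep0_apply, actV]
    have hx : ((numEquiv (numEquiv.symm x) : Fin (2 ^ 24)) : ℕ) = x := by rw [Equiv.apply_symm_apply]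
    refine Eq.trans (congrArg num ?_) hx
    rcases LeechCenter.central_cases h with e | e
    · rw [show g • lift (numEquiv.symm x) = lift (numEquiv.symm x) from congrFun (congrArg DFunLike.coe e) _,
        kap_lift]
    · rw [show g • lift (numEquiv.symm x) = -lift (numEquiv.symm x) from congrFun (congrArg DFunLike.coe e) _,
        map_neg, kap_lift, neg_eq_iff_add_eq_zero, add_self_zero]

/-- The faithful representation. -/
noncomputable def psi : Spor.Co1 →* Equiv.Perm (Fin (2 ^ 24)) :=
  QuotientGroup.lift (Subgroup.center Co0) rep0 ker_rep0.ge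

theorem psi_injective : Function.Injective psi := by
  rw [← MonoidHom.ker_eq_bot_iff, eq_bot_iff]
  intro q
  induction q using QuotientGroup.induction_on with
  | H g =>
    intro hq
    rw [Subgroup.mem_bot, QuotientGroup.eq_one_iff, ← ker_rep0]
    exact hq

/-- A number from a list of integers taken modulo two. -/
def bitsI (l : List ℤ) : ℕ := Nat.ofBits fun i : Fin 24 => decide (row l i % 2 ≠ 0)

theorem rep_of_columns (g : Co0) (c : ℕ) (N : List (List ℤ))
    (hN : ∀ j : Fin 24, g • bL j = comb (row (N.getD j.1 [])))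
    (hc : ∀ j : Fin 24, lk 24 c j.1 = bitsI (N.getD j.1 [])) : RepM 24 c (psi (g : Spor.Co1)) := by
  intro x
  show mapp 24 c x = (rep0 g x : ℕ)
  rw [rep0_apply]
  set v := numEquiv.symm x with hv
  have hxv : (x : ℕ) = num v := by rw [hv]; exact (congrArg Fin.val (numEquiv.apply_symm_apply x)).symm
  have hcol : ∀ j : Fin 24, num (kap (g • bL j)) = lk 24 c j.1 := by
    intro j
    rw [hN j, kap_comb, hc j, bitsI, num]
    congr 1
    funext i
    simp only [ne_eq, ZMod.intCast_zmod_eq_zero_iff_dvd, decide_eq_decide]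
    omega
  have key : ∀ k ≤ 24, mappTo 24 c x k =
      num (∑ j ∈ Finset.univ.filter (fun j : Fin 24 => j.1 < k), (v j).val • kap (g • bL j)) := by
    intro k
    induction k with
    | zero =>
      intro _
      have e : (Finset.univ.filter fun j : Fin 24 => j.1 < 0) = ∅ := by simp
      rw [e, Finset.sum_empty, num_zero]
      rfl
    | succ k ih =>
      intro hk
      have e : (Finset.univ.filter fun j : Fin 24 => j.1 < k + 1) =
          insert (⟨k, by omega⟩ : Fin 24) (Finset.univ.filter fun j : Fin 24 => j.1 < k) := by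
        ext j; simp [Fin.ext_iff]; omega
      rw [e, Finset.sum_insert (by simp), num_add, ← ih (by omega)]
      show (cond (Nat.testBit x k) (lk 24 c k) 0) ^^^ mappTo 24 c x k = _
      congr 1
      rw [hxv, num, Nat.testBit_ofBits_lt _ k (by omega), ← hcol ⟨k, by omega⟩]
      have hk' : k < 24 := by omega
      rcases (show ∀ a : ZMod 2, a = 0 ∨ a = 1 by decide) (v ⟨k, hk'⟩) with ha | ha
      · rw [ha]; simp [num_zero]
      · rw [ha]; simp [ZMod.val_one]
  rw [show mapp 24 c x = mappTo 24 c x 24 from rfl, key 24 le_rfl, actV, lift, comb,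
    ← LeechModule.actHom_apply, map_sum, map_sum]
  refine congrArg num (Finset.sum_congr (by ext j; simp [j.2]) fun j _ => ?_)
  rw [map_zsmul, map_zsmul, LeechModule.actHom_apply, natCast_zsmul]

end CfsgLib.Schur.Sporadic.Co1
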